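import Cfsg.Agent.Coprime.Sylow
import Cfsg.Agent.Coprime.External
import Cfsg.Agent.PGroup.UniqueOrderP
import Cfsg.Agent.PGroup.Normal
import Mathlib.GroupTheory.Nilpotent

/-!
# A `p`-group with two generating sets whose fixed points factorize a coprime group

If a `p`-group `P`, `p` odd, acts on a group `M` of order prime to `p` and `M = C_M(d) C_M(c)`
for all `c`, `d` from two generating sets, then the action is trivial.
-/

set_option autoImplicit false

namespace CfsgLib.Coprime.TwoSets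

open scoped Pointwise

universe u v

/-! ## The irreducible case -/

section Core

variable {P : Type u} [Group P] {V : Type v} [CommGroup V]

/-- The product of the translates of `v` under the powers of `g`. -/
def avg (φ : P →* MulAut V) (p : ℕ) (g : P) : V →* V where
  toFun v := ∏ j ∈ Finset.range p, φ (g ^ j) v
  map_one' := by simp
  map_mul' v w := by simp [Finset.prod_mul_distrib]

variable {φ : P →* MulAut V} {p : ℕ}

lemma avg_apply (g : P) (v : V) : avg φ p g v = ∏ j ∈ Finset.range p, φ (g ^ j) v := rfl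

lemma apply_avg {g : P} (hg : g ^ p = 1) (v : V) : φ g (avg φ p g v) = avg φ p g v := by
  rw [avg_apply, map_prod]
  have h : ∀ j, φ g (φ (g ^ j) v) = φ (g ^ (j + 1)) v := fun j => by
    rw [pow_succ', map_mul, MulAut.mul_apply]
  rw [Finset.prod_congr rfl (fun j _ => h j)]
  rcases p with _ | n
  · simp
  · rw [Finset.prod_range_succ, Finset.prod_range_succ' (fun j => φ (g ^ j) v) n, hg, pow_zero]

lemma avg_of_fixed {g : P} {v : V} (h : φ g v = v) : avg φ p g v = v ^ p := by
  have h' : ∀ j : ℕ, φ (g ^ j) v = v := by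
    intro j
    induction j with
    | zero => simp
    | succ j ih => rw [pow_succ', map_mul, MulAut.mul_apply, ih, h]
  rw [avg_apply, Finset.prod_congr rfl (fun j _ => h' j), Finset.prod_const, Finset.card_range]

lemma apply_avg_conj (c g : P) (v : V) :
    φ c (avg φ p g v) = avg φ p (c * g * c⁻¹) (φ c v) := by
  rw [avg_apply, avg_apply, map_prod]
  refine Finset.prod_congr rfl fun j _ => ?_
  rw [conj_pow, ← MulAut.mul_apply, ← map_mul, ← MulAut.mul_apply, ← map_mul]
  congr 2
  group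

/-- Fixed points of an element. -/
def fixOf (φ : P →* MulAut V) (g : P) : Subgroup V where
  carrier := {v | φ g v = v}
  one_mem' := map_one _
  mul_mem' {a b} (ha : φ g a = a) (hb : φ g b = b) := by
    show φ g (a * b) = a * b
    rw [map_mul, ha, hb]
  inv_mem' {a} (ha : φ g a = a) := by
    show φ g a⁻¹ = a⁻¹
    rw [map_inv, ha]

lemma eq_one_of_pow_eq_one [Finite V] [Fact p.Prime] (hcop : ¬ p ∣ Nat.card V) {v : V}
    (h : v ^ p = 1) : v = 1 := by
  rcases (Nat.dvd_prime Fact.out).1 (orderOf_dvd_of_pow_eq_one h) with e | e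
  · exact orderOf_eq_one_iff.1 e
  · exact absurd (e ▸ orderOf_dvd_natCard v) hcop

variable [Finite P] [Finite V] [Fact p.Prime]

theorem core_faithful (hp3 : 3 ≤ p) (hP : IsPGroup p P) (hcop : ¬ p ∣ Nat.card V)
    (φ : P →* MulAut V) (hinj : Function.Injective φ)
    (hirr : ∀ W : Subgroup V, (∀ a : P, ∀ v ∈ W, φ a v ∈ W) → W = ⊥ ∨ W = ⊤)
    (C D : Set P) (hC : Subgroup.closure C = ⊤) (hD : Subgroup.closure D = ⊤)
    (hFP : ∀ c ∈ C, ∀ d ∈ D, ∀ x : V, ∃ y : V, φ d y = y ∧ φ c (y⁻¹ * x) = y⁻¹ * x) :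
    ∀ a : P, a = 1 := by
  classical
  by_contra hne
  push Not at hne
  obtain ⟨a₀, ha₀⟩ := hne
  have hp := (Fact.out : p.Prime)
  have hfpf : ∀ z ∈ Subgroup.center P, z ≠ 1 → ∀ v : V, φ z v = v → v = 1 := by
    intro z hz hz1 v hv
    rcases hirr (fixOf φ z) (fun a w (hw : φ z w = w) => by
      show φ z (φ a w) = φ a w
      rw [← MulAut.mul_apply, ← map_mul, ← Subgroup.mem_center_iff.1 hz a, map_mul, MulAut.mul_apply,
        hw]) with h | h
    · have hm : v ∈ fixOf φ z := hv
      rwa [h, Subgroup.mem_bot] at hm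
    · exfalso
      apply hz1
      apply hinj
      rw [map_one]
      ext w
      have hm : w ∈ fixOf φ z := h ▸ Subgroup.mem_top w
      exact hm
  have hVnt : ∃ v : V, v ≠ 1 := by
    by_contra h
    push Not at h
    exact ha₀ (hinj (by rw [map_one]; ext w; rw [h w, map_one, map_one]))
  by_cases hcyc : IsCyclic P
  · have hcomm : ∀ a : P, a ∈ Subgroup.center P := by
      obtain ⟨g, hg⟩ := IsCyclic.exists_generator (α := P)
      intro a
      refine Subgroup.mem_center_iff.2 fun b => ?_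
      obtain ⟨i, rfl⟩ := Subgroup.mem_zpowers_iff.1 (hg a)
      obtain ⟨j, rfl⟩ := Subgroup.mem_zpowers_iff.1 (hg b)
      rw [← zpow_add, ← zpow_add, add_comm]
    have hex : ∀ S : Set P, Subgroup.closure S = ⊤ → ∃ s ∈ S, s ≠ 1 := by
      intro S hS
      by_contra h
      push Not at h
      have : Subgroup.closure S ≤ ⊥ :=
        (Subgroup.closure_le _).2 fun s hs => Subgroup.mem_bot.2 (h s hs)
      rw [hS] at this
      exact ha₀ (Subgroup.mem_bot.1 (this (Subgroup.mem_top a₀)))
    obtain ⟨c, hc, hc1⟩ := hex C hC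
    obtain ⟨d, hd, hd1⟩ := hex D hD
    obtain ⟨v, hv⟩ := hVnt
    obtain ⟨y, hy, hyx⟩ := hFP c hc d hd v
    have hy1 := hfpf d (hcomm d) hd1 y hy
    rw [hy1, inv_one, one_mul] at hyx
    exact hv (hfpf c (hcomm c) hc1 v hyx)
  obtain ⟨E, hEn, hEe, hEc⟩ :=
    CfsgLib.PGroup.exists_normal_elementary_sq (by omega : p ≠ 2) hP hcyc
  -- a central element of order `p` in `E`
  have hEne : E ≠ ⊥ := fun h => by
    rw [h, Subgroup.card_bot] at hEc
    exact absurd hEc.symm (Nat.one_lt_pow two_ne_zero hp.one_lt).ne'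
  haveI := hEn
  have hint := CfsgLib.PGroup.inf_center_ne_bot hP E hEne
  obtain ⟨⟨z, hzE, hzZ⟩, hz1⟩ := Subgroup.ne_bot_iff_exists_ne_one.1 hint
  replace hz1 : z ≠ 1 := fun h => hz1 (Subtype.ext h)
  have hpow : ∀ g ∈ E, g ^ p = 1 := fun g hg => hEe.2 g hg
  have hzo : orderOf z = p := orderOf_eq_prime (hpow z hzE) hz1
  obtain ⟨e, heE, hez⟩ : ∃ e ∈ E, e ∉ Subgroup.zpowers z := by
    by_contra h
    push Not at h
    have := Subgroup.card_le_of_le (H := E) (K := Subgroup.zpowers z) h
    rw [hEc, Nat.card_zpowers, hzo] at this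
    nlinarith [hp.one_lt]
  -- `[P, e] ≤ ⟨z⟩`
  have hcomm : ∀ c : P, ∃ k : ℕ, c * e * c⁻¹ = e * z ^ k := by
    intro c
    haveI : (Subgroup.zpowers z).Normal := by
      refine ⟨fun x hx g => ?_⟩
      have hxc : x ∈ Subgroup.center P := (Subgroup.zpowers_le.2 hzZ) hx
      rw [Subgroup.mem_center_iff.1 hxc g, mul_inv_cancel_right]
      exact hx
    let π := QuotientGroup.mk' (Subgroup.zpowers z)
    haveI : (E.map π).Normal := hEn.map π (QuotientGroup.mk'_surjective _)
    have hcard : Nat.card (E.map π) = p := by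
      have hidx := Subgroup.card_mul_index ((Subgroup.zpowers z).subgroupOf E)
      rw [Nat.card_congr (Subgroup.subgroupOfEquivOfLe (Subgroup.zpowers_le.2 hzE)).toEquiv,
        Nat.card_zpowers, hzo, hEc, pow_two] at hidx
      have h1 : Nat.card (E.map π) = ((Subgroup.zpowers z).subgroupOf E).index := by
        have e1 : (π.comp E.subtype).range = E.map π := by
          rw [MonoidHom.range_comp, E.range_subtype]
        have e2 : (π.comp E.subtype).ker = (Subgroup.zpowers z).subgroupOf E := by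
          ext x
          simp [π, Subgroup.mem_subgroupOf]
        rw [← e1, ← e2, Subgroup.index_ker]
      rw [h1]
      exact Nat.eq_of_mul_eq_mul_left hp.pos hidx
    have hcen := CfsgLib.PGroup.le_center_of_card_eq (hP.to_quotient _) (E.map π) hcard ⟨e, heE, rfl⟩
    have he : π (c * e * c⁻¹) = π e := by
      rw [map_mul, map_mul, map_inv, Subgroup.mem_center_iff.1 hcen (π c), mul_inv_cancel_right]
    have hmem : e⁻¹ * (c * e * c⁻¹) ∈ Subgroup.zpowers z := QuotientGroup.eq.1 he.symm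
    rw [← mem_powers_iff_mem_zpowers, Submonoid.mem_powers_iff] at hmem
    obtain ⟨k, hk⟩ := hmem
    exact ⟨k, by rw [hk, mul_inv_cancel_left]⟩
  have hzz : ∀ g : P, z * g = g * z := fun g => (Subgroup.mem_center_iff.1 hzZ g).symm
  have hzk : ∀ i : ℕ, ¬ p ∣ i → z ^ i ≠ 1 := fun i hi h =>
    hi (hzo ▸ orderOf_dvd_of_pow_eq_one h)
  have hzc : ∀ i : ℕ, z ^ i ∈ Subgroup.center P := fun i => pow_mem hzZ i
  -- the decomposition identity
  have hid : ∀ v : V, ∏ i ∈ Finset.range p, avg φ p (e * z ^ i) v = v ^ p := by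
    intro v
    simp only [avg_apply]
    rw [Finset.prod_comm, Finset.prod_eq_single 0]
    · simp
    · intro j hj hj0
      have hjp : ¬ p ∣ j := fun h =>
        (Nat.le_of_dvd (Nat.pos_of_ne_zero hj0) h).not_gt (Finset.mem_range.1 hj)
      have h : ∀ i : ℕ, φ ((e * z ^ i) ^ j) v = φ (e ^ j) (φ ((z ^ j) ^ i) v) := fun i => by
        rw [(show Commute e (z ^ i) from (Subgroup.mem_center_iff.1 (hzc i) e)).mul_pow,
          map_mul, MulAut.mul_apply, ← pow_mul, ← pow_mul, mul_comm i j]
      rw [Finset.prod_congr rfl (fun i _ => h i), ← map_prod, ← avg_apply,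
        hfpf (z ^ j) (hzc j) (hzk j hjp) _ (apply_avg (by rw [← pow_mul, mul_comm, pow_mul, hpow z hzE,
          one_pow]) v), map_one]
    · intro h
      exact absurd (Finset.mem_range.2 hp.pos) h
  -- `e` is not central
  have henc : e ∉ Subgroup.center P := by
    intro he
    obtain ⟨v, hv⟩ := hVnt
    refine hv (eq_one_of_pow_eq_one hcop ?_)
    rw [← hid v]
    refine Finset.prod_eq_one fun i _ => ?_
    refine hfpf _ (mul_mem he (hzc i)) (fun h => hez ?_) _ (apply_avg (hpow _ (mul_mem heE (pow_mem hzE i))) v)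
    rw [eq_inv_of_mul_eq_one_left h]
    exact inv_mem (Subgroup.mem_zpowers_iff.2 ⟨i, zpow_natCast z i⟩)
  -- outside the centraliser of `e` fixed points are small
  have hsmall : ∀ c : P, c * e * c⁻¹ ≠ e → Nat.card (fixOf φ c) ^ p ≤ Nat.card V := by
    intro c hce
    obtain ⟨k, hk⟩ := hcomm c
    have hk0 : ¬ p ∣ k := by
      rintro ⟨m, rfl⟩
      rw [pow_mul, hpow z hzE, one_pow, mul_one] at hk
      exact hce hk
    -- `g i = e * z ^ (i * k)`
    have hconjm : ∀ m i : ℕ, c ^ m * (e * z ^ (i * k)) * (c ^ m)⁻¹ = e * z ^ ((i + m) * k) := by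
      intro m
      induction m with
      | zero => simp
      | succ m ih =>
        intro i
        rw [pow_succ', show c * c ^ m * (e * z ^ (i * k)) * (c * c ^ m)⁻¹ =
          c * (c ^ m * (e * z ^ (i * k)) * (c ^ m)⁻¹) * c⁻¹ by group, ih,
          show c * (e * z ^ ((i + m) * k)) * c⁻¹ = (c * e * c⁻¹) * (c * z ^ ((i + m) * k) * c⁻¹) by group,
          hk, Subgroup.mem_center_iff.1 (hzc _) c, mul_inv_cancel_right, mul_assoc, ← pow_add]
        congr 2
        ring
    have hfix : ∀ m : ℕ, ∀ v : fixOf φ c, φ (c ^ m) (v : V) = v := by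
      intro m v
      induction m with
      | zero => simp
      | succ m ih => rw [pow_succ', map_mul, MulAut.mul_apply, ih]; exact v.2
    let g : Fin p → P := fun i => e * z ^ ((i : ℕ) * k)
    have hgp : ∀ i, g i ^ p = 1 := fun i => hpow _ (mul_mem heE (pow_mem hzE _))
    have hgg : ∀ i j, Commute (g i) (g j) := fun i j => by
      have hcz : ∀ a b : ℕ, Commute (z ^ a) (z ^ b) := fun a b => Commute.pow_pow (Commute.refl z) a b
      exact Commute.mul_left
        (Commute.mul_right (Commute.refl e) (Subgroup.mem_center_iff.1 (hzc _) e))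
        (Commute.mul_right (Subgroup.mem_center_iff.1 (hzc _) e).symm (hcz _ _))
    have hsep : ∀ i j : Fin p, i ≠ j → ∀ w : V, φ (g i) w = w → φ (g j) w = w → w = 1 := by
      intro i j hij w h1 h2
      have hzw : φ ((g i)⁻¹ * g j) w = w := by
        rw [map_mul, MulAut.mul_apply, h2, map_inv]
        exact (φ (g i)).injective (by rw [MulAut.apply_inv_self, h1])
      have hne : (g i)⁻¹ * g j ≠ 1 := by
        intro h
        have h' : g i = g j := by rw [← mul_one (g i), ← h, mul_inv_cancel_left]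
        have h'' : z ^ ((i : ℕ) * k) = z ^ ((j : ℕ) * k) := mul_left_cancel h'
        rw [pow_eq_pow_iff_modEq, hzo] at h''
        have hco : Nat.gcd p k = 1 := hp.coprime_iff_not_dvd.2 hk0
        have := Nat.ModEq.cancel_right_of_coprime hco h''
        exact hij (Fin.ext (by rwa [Nat.ModEq, Nat.mod_eq_of_lt i.2, Nat.mod_eq_of_lt j.2] at this))
      refine hfpf _ ?_ hne w hzw
      have : (g i)⁻¹ * g j = (z ^ ((i : ℕ) * k))⁻¹ * z ^ ((j : ℕ) * k) := by
        show (e * z ^ ((i : ℕ) * k))⁻¹ * (e * z ^ ((j : ℕ) * k)) = _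
        group
      rw [this]
      exact mul_mem (inv_mem (hzc _)) (hzc _)
    let Φ : (Fin p → fixOf φ c) →* V :=
      { toFun := fun f => ∏ i, avg φ p (g i) (f i : V)
        map_one' := by simp
        map_mul' := fun f f' => by simp [Finset.prod_mul_distrib] }
    have hΦ : Function.Injective Φ := by
      rw [injective_iff_map_eq_one]
      intro f hf
      funext m
      have h1 : avg φ p (g m) (f m : V) ^ p = 1 := by
        have := congrArg (avg φ p (g m)) hf
        simp only [Φ, MonoidHom.coe_mk, OneHom.coe_mk, map_one, map_prod] at this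
        rw [Finset.prod_eq_single m] at this
        · rwa [avg_of_fixed (apply_avg (hgp m) _)] at this
        · intro i _ him
          refine hsep m i (Ne.symm him) _ (apply_avg (hgp m) _) ?_
          rw [apply_avg_conj, apply_avg (hgp i), (hgg i m).eq, mul_inv_cancel_right]
        · simp
      have h2 := eq_one_of_pow_eq_one hcop h1
      refine Subtype.ext (eq_one_of_pow_eq_one hcop ?_)
      rw [← hid]
      refine Finset.prod_eq_one fun i hi => ?_
      -- every translate of the trivial average is trivial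
      obtain ⟨j, hj⟩ : ∃ j : ℕ, ((m : ℕ) + j) * k ≡ i [MOD p] := by
        obtain ⟨b, hb⟩ := Nat.exists_mul_mod_eq_one_of_coprime ((hp.coprime_iff_not_dvd.2 hk0).symm) hp.one_lt
        refine ⟨b * i + (p - 1) * m, ?_⟩
        have hb' : k * b ≡ 1 [MOD p] := by
          rw [Nat.ModEq, Nat.mod_eq_of_lt hp.one_lt]; exact hb.2
        have hpm : (p - 1) * (m : ℕ) + m = p * m := by
          rw [← Nat.succ_mul, Nat.succ_eq_add_one, Nat.sub_add_cancel hp.one_le]
        calc ((m : ℕ) + (b * i + (p - 1) * m)) * k = (b * i + ((p - 1) * m + m)) * k := by ring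
          _ = k * b * i + p * (m * k) := by rw [hpm]; ring
          _ ≡ 1 * i + 0 [MOD p] := Nat.ModEq.add (Nat.ModEq.mul_right i hb')
              (Nat.modEq_zero_iff_dvd.2 ⟨_, rfl⟩)
          _ = i := by ring
      have hz' : z ^ i = z ^ (((m : ℕ) + j) * k) := by
        rw [pow_eq_pow_iff_modEq, hzo]; exact hj.symm
      rw [hz', ← hconjm j m, ← hfix j (f m), ← apply_avg_conj]
      show φ (c ^ j) (avg φ p (g m) (f m : V)) = 1
      rw [h2, map_one]
    have := Nat.card_le_card_of_injective Φ hΦ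
    rwa [Nat.card_fun, Nat.card_eq_fintype_card (α := Fin p), Fintype.card_fin] at this
  -- counting
  have hex : ∀ S : Set P, Subgroup.closure S = ⊤ → ∃ s ∈ S, s * e * s⁻¹ ≠ e := by
    intro S hS
    by_contra h
    push Not at h
    refine henc (Subgroup.mem_center_iff.2 fun b => ?_)
    have : b ∈ Subgroup.centralizer ({e} : Set P) := by
      refine (hS ▸ (Subgroup.closure_le _).2 fun s hs => ?_ : (⊤ : Subgroup P) ≤ _) (Subgroup.mem_top b)
      exact Subgroup.mem_centralizer_singleton_iff.2 (mul_inv_eq_iff_eq_mul.1 (h s hs))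
    exact Subgroup.mem_centralizer_singleton_iff.1 this
  obtain ⟨c, hc, hce⟩ := hex C hC
  obtain ⟨d, hd, hde⟩ := hex D hD
  have hle : Nat.card V ≤ Nat.card (fixOf φ d) * Nat.card (fixOf φ c) := by
    rw [← Nat.card_prod]
    refine Nat.card_le_card_of_surjective (fun x => (x.1 : V) * (x.2 : V)) fun x => ?_
    obtain ⟨y, hy, hyx⟩ := hFP c hc d hd x
    exact ⟨(⟨y, hy⟩, ⟨y⁻¹ * x, hyx⟩), mul_inv_cancel_left y x⟩
  have h2 : Nat.card V ^ p ≤ Nat.card V ^ 2 := by
    calc Nat.card V ^ p ≤ (Nat.card (fixOf φ d) * Nat.card (fixOf φ c)) ^ p :=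
          Nat.pow_le_pow_left hle p
      _ = Nat.card (fixOf φ d) ^ p * Nat.card (fixOf φ c) ^ p := mul_pow _ _ _
      _ ≤ Nat.card V * Nat.card V := Nat.mul_le_mul (hsmall d hde) (hsmall c hce)
      _ = Nat.card V ^ 2 := (pow_two _).symm
  obtain ⟨v, hv⟩ := hVnt
  haveI : Nontrivial V := ⟨⟨v, 1, hv⟩⟩
  have := (Nat.pow_le_pow_iff_right (Finite.one_lt_card (α := V))).1 h2
  omega

theorem core (hp3 : 3 ≤ p) (hP : IsPGroup p P) (hcop : ¬ p ∣ Nat.card V)
    (φ : P →* MulAut V)
    (hirr : ∀ W : Subgroup V, (∀ a : P, ∀ v ∈ W, φ a v ∈ W) → W = ⊥ ∨ W = ⊤)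
    (C D : Set P) (hC : Subgroup.closure C = ⊤) (hD : Subgroup.closure D = ⊤)
    (hFP : ∀ c ∈ C, ∀ d ∈ D, ∀ x : V, ∃ y : V, φ d y = y ∧ φ c (y⁻¹ * x) = y⁻¹ * x) :
    φ = 1 := by
  have hgen : ∀ S : Set P, Subgroup.closure S = ⊤ →
      Subgroup.closure (φ.rangeRestrict '' S) = ⊤ := fun S hS => by
    rw [← MonoidHom.map_closure, hS, Subgroup.map_top_of_surjective _ φ.rangeRestrict_surjective]
  have h := core_faithful hp3 (hP.of_surjective φ.rangeRestrict φ.rangeRestrict_surjective) hcop
    φ.range.subtype φ.range.subtype_injective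
    (fun W hW => hirr W fun a => hW (φ.rangeRestrict a)) _ _ (hgen C hC) (hgen D hD)
    (by rintro _ ⟨c, hc, rfl⟩ _ ⟨d, hd, rfl⟩; exact hFP c hc d hd)
  ext a v
  have ha := congrArg Subtype.val (h (φ.rangeRestrict a))
  rw [MonoidHom.coe_rangeRestrict] at ha
  rw [ha]
  rfl

end Core

/-! ## `q`-groups -/

section Reduction

variable {P : Type u} [Group P] [Finite P] {p q : ℕ} [Fact p.Prime] [Fact q.Prime]

lemma isPGroup_action (hp3 : 3 ≤ p) (hP : IsPGroup p P) (hpq : q ≠ p) (C D : Set P)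
    (hC : Subgroup.closure C = ⊤) (hD : Subgroup.closure D = ⊤) :
    ∀ (n : ℕ) (M : Type v) [Group M] [Finite M], Nat.card M = n → IsPGroup q M →
      ∀ φ : P →* MulAut M,
        (∀ c ∈ C, ∀ d ∈ D, ∀ x : M, ∃ y : M, φ d y = y ∧ φ c (y⁻¹ * x) = y⁻¹ * x) →
        ∀ (a : P) (x : M), φ a x = x := by
  intro n
  induction n using Nat.strong_induction_on with
  | _ n ih =>
  intro M _ _ hn hM φ hFP
  rcases subsingleton_or_nontrivial M with hs | hs
  · exact fun a x => Subsingleton.elim _ _
  obtain ⟨m, hm⟩ := IsPGroup.iff_card.1 hM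
  have hcopM : ¬ p ∣ Nat.card M := by
    rw [hm]
    intro h
    exact hpq ((Nat.prime_dvd_prime_iff_eq Fact.out Fact.out).1
      ((Fact.out : p.Prime).dvd_of_dvd_pow h)).symm
  have hcopP : (Nat.card P).Coprime (Nat.card M) := by
    obtain ⟨k, hk⟩ := IsPGroup.iff_card.1 hP
    rw [hk]
    exact Nat.Coprime.pow_left _ ((Fact.out : p.Prime).coprime_iff_not_dvd.2 hcopM)
  have hsolM : Group.IsSolvable M := by haveI := hM.isNilpotent; infer_instance
  -- reduction along a proper invariant normal subgroup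
  by_cases hW : ∃ W : Subgroup M, W.Normal ∧ W ≠ ⊥ ∧ W ≠ ⊤ ∧ ∀ a : P, ∀ w ∈ W, φ a w ∈ W
  · obtain ⟨W, hWn, hWb, hWt, hWinv⟩ := hW
    haveI := hWn
    have hmap : ∀ a : P, W.map ((φ a : M ≃* M) : M →* M) = W := fun a => by
      refine le_antisymm ?_ fun w hw => ?_
      · rintro _ ⟨w, hw, rfl⟩; exact hWinv a w hw
      · exact ⟨φ a⁻¹ w, hWinv a⁻¹ w hw, by
          show φ a (φ a⁻¹ w) = w
          rw [← MulAut.mul_apply, ← map_mul, mul_inv_cancel, map_one, MulAut.one_apply]⟩
    let ψ : P →* MulAut (M ⧸ W) := MonoidHom.mk' (fun a => QuotientGroup.congr W W (φ a) (hmap a))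
      (fun a b => by
        ext x
        induction x using QuotientGroup.induction_on with
        | _ x => simp [QuotientGroup.congr_mk, map_mul])
    have hψ : ∀ (a : P) (x : M), ψ a (x : M ⧸ W) = ((φ a x : M) : M ⧸ W) := fun a x => rfl
    have hlt : Nat.card (M ⧸ W) < n := by
      rw [← hn, W.card_eq_card_quotient_mul_card_subgroup]
      refine lt_mul_of_one_lt_right Nat.card_pos ?_
      exact Finite.one_lt_card_iff_nontrivial.2 ((Subgroup.nontrivial_iff_ne_bot W).2 hWb)
    have hquot := ih _ hlt (M ⧸ W) rfl (hM.to_quotient W) ψ (fun c hc d hd x => by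
      induction x using QuotientGroup.induction_on with
      | _ x =>
        obtain ⟨y, hy, hyx⟩ := hFP c hc d hd x
        refine ⟨(y : M ⧸ W), by rw [hψ, hy], ?_⟩
        rw [← QuotientGroup.mk_inv, ← QuotientGroup.mk_mul, hψ, hyx])
    have hmod : ∀ (a : P) (g : M), g⁻¹ * φ a g ∈ W := fun a g =>
      QuotientGroup.eq.1 ((hquot a g).symm.trans (hψ a g))
    -- fixed points lift, so the hypothesis passes to `W`
    let χ : P →* MulAut W :=
      { toFun := fun a =>
          { toFun := fun w => ⟨φ a w, hWinv a w w.2⟩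
            invFun := fun w => ⟨φ a⁻¹ w, hWinv a⁻¹ w w.2⟩
            left_inv := fun w => Subtype.ext (by
              show φ a⁻¹ (φ a w) = w
              rw [← MulAut.mul_apply, ← map_mul, inv_mul_cancel, map_one, MulAut.one_apply])
            right_inv := fun w => Subtype.ext (by
              show φ a (φ a⁻¹ w) = w
              rw [← MulAut.mul_apply, ← map_mul, mul_inv_cancel, map_one, MulAut.one_apply])
            map_mul' := fun v w => Subtype.ext (map_mul (φ a) (v : M) w) }
        map_one' := by ext w; simp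
        map_mul' := fun a b => by ext w; simp }
    have hWlt : Nat.card W < n := by
      rw [← hn]
      refine lt_of_le_of_ne (Nat.le_of_dvd Nat.card_pos (Subgroup.card_subgroup_dvd_card W)) ?_
      exact fun h => hWt (Subgroup.eq_top_of_card_eq W h)
    have hWfix := ih _ hWlt W rfl (hM.to_subgroup W) χ (fun c hc d hd x => by
      obtain ⟨y, hy, hyx⟩ := hFP c hc d hd x
      obtain ⟨w, hw, hyw⟩ :=
        CfsgLib.Coprime.exists_fixed_mul_of_action φ hcopP (Or.inr hsolM) W hWinv (g := y) (fun a => hmod a y)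
      refine ⟨⟨y * (y * w)⁻¹, ?_⟩, Subtype.ext ?_, Subtype.ext ?_⟩
      · rw [mul_inv_rev, ← mul_assoc]
        exact hWn.conj_mem _ (inv_mem hw) y
      · show φ d (y * (y * w)⁻¹) = y * (y * w)⁻¹
        rw [map_mul, map_inv, hy, hyw]
      · show φ c ((y * (y * w)⁻¹)⁻¹ * x) = (y * (y * w)⁻¹)⁻¹ * x
        rw [mul_inv_rev, inv_inv, mul_assoc, map_mul, hyw, hyx])
    exact CfsgLib.Coprime.aut_eq_one_of_stab φ hcopP W
      (fun a w hw => congrArg Subtype.val (hWfix a ⟨w, hw⟩)) hmod
  -- otherwise `M` is abelian and irreducible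
  · push Not at hW
    haveI := hM.center_nontrivial
    have hcen : Subgroup.center M = ⊤ := by
      by_contra hne
      obtain ⟨a, w, hw, hout⟩ := hW (Subgroup.center M) inferInstance
        ((Subgroup.nontrivial_iff_ne_bot _).1 inferInstance) hne
      refine hout ?_
      have h := Subgroup.characteristic_iff_map_eq.1 (inferInstance : (Subgroup.center M).Characteristic) (φ a)
      rw [← h]
      exact ⟨w, hw, rfl⟩
    letI : CommGroup M :=
      { (inferInstance : Group M) with
        mul_comm := fun a b => (Subgroup.mem_center_iff.1 (hcen ▸ Subgroup.mem_top a) b).symm }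
    have h := core hp3 hP hcopM φ (fun W hinv => by
      by_contra hh
      push Not at hh
      obtain ⟨a, w, hw, hout⟩ := hW W inferInstance hh.1 hh.2
      exact hout (hinv a w hw)) C D hC hD hFP
    intro a x
    rw [h]
    rfl

end Reduction

/-! ## The internal theorem -/

section Internal

variable {G : Type u} [Group G] [Finite G]

/-- `|HL| |H ∩ L| = |H| |L|` when `HL` is the subgroup `K`. -/
lemma card_eq_of_factor {H L K : Subgroup G} (hH : H ≤ K) (hL : L ≤ K)
    (h : ∀ x ∈ K, ∃ y ∈ H, y⁻¹ * x ∈ L) :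
    Nat.card K * Nat.card ↥(H ⊓ L) = Nat.card H * Nat.card L := by
  choose y hy hyx using h
  rw [← Nat.card_prod, ← Nat.card_prod]
  exact Nat.card_congr
    { toFun := fun a => (⟨y a.1 a.1.2 * a.2, mul_mem (hy _ _) a.2.2.1⟩,
        ⟨(a.2 : G)⁻¹ * ((y a.1 a.1.2)⁻¹ * a.1), mul_mem (L.inv_mem a.2.2.2) (hyx _ _)⟩)
      invFun := fun b =>
        (⟨(b.1 : G) * b.2, mul_mem (hH b.1.2) (hL b.2.2)⟩,
          ⟨(y ((b.1 : G) * b.2) (mul_mem (hH b.1.2) (hL b.2.2)))⁻¹ * b.1,
            mul_mem (H.inv_mem (hy _ _)) b.1.2, by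
              have := mul_mem (hyx _ (mul_mem (hH b.1.2) (hL b.2.2))) (L.inv_mem b.2.2)
              rwa [mul_assoc, mul_inv_cancel_right] at this⟩)
      left_inv := fun a => by
        have e : (y a.1 a.1.2 * (a.2 : G)) * ((a.2 : G)⁻¹ * ((y a.1 a.1.2)⁻¹ * a.1)) = a.1 := by
          group
        refine Prod.ext (Subtype.ext e) (Subtype.ext ?_)
        show (y _ _)⁻¹ * (y a.1 a.1.2 * (a.2 : G)) = a.2
        simp only [e, inv_mul_cancel_left]
      right_inv := fun b => by
        refine Prod.ext (Subtype.ext ?_) (Subtype.ext ?_)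
        · exact mul_inv_cancel_left _ _
        · show ((y _ _)⁻¹ * (b.1 : G))⁻¹ * ((y _ _)⁻¹ * ((b.1 : G) * b.2)) = b.2
          group }

lemma card_mul_le (H L : Subgroup G) :
    Nat.card H * Nat.card L ≤
      Nat.card ((fun a : H × L => (a.1 : G) * a.2) '' Set.univ : Set G) * Nat.card ↥(H ⊓ L) := by
  classical
  set S := ((fun a : H × L => (a.1 : G) * a.2) '' Set.univ : Set G)
  have hpre : ∀ s : S, ∃ a : H × L, (a.1 : G) * a.2 = s := fun s => by
    obtain ⟨a, -, ha⟩ := s.2
    exact ⟨a, ha⟩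
  choose pre hpre using hpre
  let img : H × L → S := fun a => ⟨(a.1 : G) * a.2, a, trivial, rfl⟩
  rw [← Nat.card_prod, ← Nat.card_prod]
  refine Nat.card_le_card_of_injective (fun a => (img a, ⟨((pre (img a)).1 : G)⁻¹ * a.1,
    mul_mem (H.inv_mem (pre (img a)).1.2) a.1.2, ?_⟩)) ?_
  · have : ((pre (img a)).1 : G)⁻¹ * a.1 = (pre (img a)).2 * (a.2 : G)⁻¹ := by
      rw [eq_mul_inv_iff_mul_eq, mul_assoc]
      show _ * ((img a : S) : G) = _
      exact inv_mul_eq_iff_eq_mul.2 (hpre (img a)).symm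
    rw [this]
    exact mul_mem (pre (img a)).2.2 (L.inv_mem a.2.2)
  · intro a b hab
    simp only [Prod.mk.injEq, Subtype.mk.injEq] at hab
    obtain ⟨h1, h2⟩ := hab
    have h3 : pre (img a) = pre (img b) := congrArg pre h1
    have h2' := congrArg Subtype.val h2
    simp only [h3] at h2'
    have ha := mul_left_cancel h2'
    have hb : (a.1 : G) * a.2 = b.1 * b.2 := congrArg Subtype.val h1
    rw [ha] at hb
    exact Prod.ext (Subtype.ext ha) (Subtype.ext (mul_left_cancel hb))

theorem commutator_eq_bot_of_two_sets {p : ℕ} [Fact p.Prime] (hp3 : 3 ≤ p) (P : Sylow p G)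
    (N : Subgroup G) [N.Normal] (hN : (Nat.card N).Coprime p) (hNP : N ⊔ (P : Subgroup G) = ⊤)
    (C D : Set G) (hC : Subgroup.closure C = (P : Subgroup G))
    (hD : Subgroup.closure D = (P : Subgroup G))
    (h : ∀ x ∈ N, ∀ c ∈ C, ∀ d ∈ D, IsPGroup p ↥(Subgroup.closure ({x * c * x⁻¹, d} : Set G))) :
    ⁅(P : Subgroup G), N⁆ = ⊥ := by
  set Ps : Subgroup G := (P : Subgroup G) with hPs
  have hCP : C ⊆ Ps := hC ▸ Subgroup.subset_closure
  have hDP : D ⊆ Ps := hD ▸ Subgroup.subset_closure
  have hPN : ∀ u ∈ Ps, u ∈ N → u = 1 := by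
    intro u hu hu'
    obtain ⟨k, hk⟩ := exists_pow_of P hu
    have h1 : orderOf u ∣ Nat.card N := by
      rw [← Subgroup.orderOf_mk u hu']; exact orderOf_dvd_natCard _
    exact orderOf_eq_one_iff.1 (Nat.eq_one_of_dvd_coprimes (Nat.Coprime.pow_right k hN) h1
      (orderOf_dvd_of_pow_eq_one hk))
  -- Step 0: fixed points of `d` and `c` factorize `N`
  have hfac : ∀ c ∈ C, ∀ d ∈ D, ∀ x ∈ N, ∃ y ∈ N ⊓ Subgroup.centralizer ({d} : Set G),
      y⁻¹ * x ∈ N ⊓ Subgroup.centralizer ({c} : Set G) := by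
    intro c hc d hd x hx
    obtain ⟨Q, hQ⟩ := (h x hx c hc d hd).exists_le_sylow
    obtain ⟨g, hg⟩ := MulAction.exists_smul_eq G P Q
    obtain ⟨n, hn, r, hr, hnr⟩ : g ∈ (N : Set G) * (Ps : Set G) := by
      rw [← Subgroup.normal_mul, hPs, hNP]; exact Set.mem_univ g
    have hin : ∀ y ∈ Subgroup.closure ({x * c * x⁻¹, d} : Set G), n⁻¹ * y * n ∈ Ps := by
      intro y hy
      have hyQ := hQ hy
      rw [← hg] at hyQ
      obtain ⟨w, hw, hwy⟩ := hyQ
      have e : g * w * g⁻¹ = y := hwy
      rw [← e, show g = n * r from hnr.symm,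
        show n⁻¹ * (n * r * w * (n * r)⁻¹) * n = r * w * r⁻¹ by group]
      exact mul_mem (mul_mem hr hw) (inv_mem hr)
    have hcen : ∀ u ∈ N, ∀ b ∈ Ps, u * b * u⁻¹ ∈ Ps → u * b * u⁻¹ = b := by
      intro u hu b hb hub
      refine mul_inv_eq_one.1 (hPN _ (mul_mem hub (inv_mem hb)) ?_)
      rw [show u * b * u⁻¹ * b⁻¹ = u * (b * u⁻¹ * b⁻¹) by group]
      exact mul_mem hu (‹N.Normal›.conj_mem _ (inv_mem hu) b)
    have hd' := hin d (Subgroup.subset_closure (by simp))
    have hx' := hin _ (Subgroup.subset_closure (Set.mem_insert (x * c * x⁻¹) _))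
    have e1 : n⁻¹ * d * n⁻¹⁻¹ = d := hcen n⁻¹ (inv_mem hn) d (hDP hd) (by rw [inv_inv]; exact hd')
    have e2 : (n⁻¹ * x) * c * (n⁻¹ * x)⁻¹ = c := by
      refine hcen _ (mul_mem (inv_mem hn) hx) c (hCP hc) ?_
      rw [show n⁻¹ * x * c * (n⁻¹ * x)⁻¹ = n⁻¹ * (x * c * x⁻¹) * n by group]
      exact hx'
    refine ⟨n, ⟨hn, ?_⟩, mul_mem (N.inv_mem hn) hx,
      Subgroup.mem_centralizer_singleton_iff.2 (mul_inv_eq_iff_eq_mul.1 e2)⟩
    have e1' : n⁻¹ ∈ Subgroup.centralizer ({d} : Set G) :=
      Subgroup.mem_centralizer_singleton_iff.2 (mul_inv_eq_iff_eq_mul.1 e1)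
    simpa using inv_mem e1'
  -- Step 1: Sylow subgroups of `N`
  have hPnorm : Ps ≤ Subgroup.normalizer (N : Set G) := by
    rw [Subgroup.normalizer_eq_top]; exact le_top
  obtain ⟨kP, hkP⟩ := IsPGroup.iff_card.1 P.isPGroup'
  have hcopPN : (Nat.card Ps).Coprime (Nat.card N) := by
    rw [hPs, hkP]; exact (Nat.Coprime.pow_right kP hN).symm
  have hsolP : Group.IsSolvable Ps := CfsgLib.Coprime.isSolvable_of_isPGroup P.isPGroup'
  have hcentre : ∀ q : ℕ, q.Prime →
      ordProj[q] (Nat.card N) ∣ Nat.card ↥(N ⊓ Subgroup.centralizer (Ps : Set G)) := by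
    intro q hq
    haveI : Fact q.Prime := ⟨hq⟩
    obtain ⟨Q, hQ⟩ := CfsgLib.Coprime.exists_invariant_sylow (p := q) hPnorm hcopPN (Or.inl hsolP)
    set Qs : Subgroup G := (Q : Subgroup N).map N.subtype with hQs
    have hQcard : Nat.card Qs = q ^ (Nat.card N).factorization q := by
      rw [hQs, Subgroup.card_map_of_injective N.subtype_injective, Q.card_eq_multiplicity]
    have hQN : Qs ≤ N := Subgroup.map_subtype_le _
    suffices hQc : Qs ≤ N ⊓ Subgroup.centralizer (Ps : Set G) by
      rw [← hQcard]; exact Subgroup.card_dvd_of_le hQc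
    refine le_inf hQN ?_
    by_cases hqp : q = p
    · subst hqp
      have : (Nat.card N).factorization q = 0 :=
        Nat.factorization_eq_zero_of_not_dvd (hq.coprime_iff_not_dvd.1 hN.symm)
      rw [this, pow_zero] at hQcard
      rw [Subgroup.eq_bot_of_card_eq Qs hQcard]
      exact bot_le
    -- the action
    let φ : Ps →* MulAut Qs := (Subgroup.normalizerMonoidHom Qs).comp (Subgroup.inclusion hQ)
    have hφ : ∀ (a : Ps) (x : Qs), ((φ a x : Qs) : G) = (a : G) * x * (a : G)⁻¹ := fun a x => rfl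
    -- the Sylow subgroup of a centraliser
    have hbig : ∀ b ∈ Ps, q ^ (Nat.card ↥(N ⊓ Subgroup.centralizer ({b} : Set G))).factorization q ≤
        Nat.card ↥(Qs ⊓ Subgroup.centralizer ({b} : Set G)) := by
      intro b hb
      obtain ⟨R⟩ : Nonempty (Sylow q ↥(N ⊓ Subgroup.centralizer ({b} : Set G))) := inferInstance
      set Rs := (R : Subgroup _).map (N ⊓ Subgroup.centralizer ({b} : Set G)).subtype
      have hRle : Rs ≤ N ⊓ Subgroup.centralizer ({b} : Set G) := Subgroup.map_subtype_le _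
      have hbN : Subgroup.zpowers b ≤ Subgroup.normalizer (N : Set G) :=
        (Subgroup.zpowers_le.2 hb).trans hPnorm
      have hcopb : (Nat.card (Subgroup.zpowers b)).Coprime (Nat.card N) :=
        hcopPN.coprime_dvd_left (Subgroup.card_dvd_of_le (Subgroup.zpowers_le.2 hb))
      have hsolb : Group.IsSolvable (Subgroup.zpowers b) := CfsgLib.Coprime.isSolvable_zpowers b
      have hbR : Subgroup.zpowers b ≤ Subgroup.normalizer (Rs : Set G) := by
        rw [Subgroup.zpowers_le, Subgroup.mem_normalizer_iff]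
        intro y
        constructor
        · intro hy
          have := Subgroup.mem_centralizer_singleton_iff.1 (hRle hy).2
          rw [← this, mul_inv_cancel_right]
          exact hy
        · intro hy
          have := Subgroup.mem_centralizer_singleton_iff.1 (hRle hy).2
          have e : y = b * y * b⁻¹ := by
            have h' : b⁻¹ * (b * y * b⁻¹ * b) = b⁻¹ * (b * (b * y * b⁻¹)) := congrArg (b⁻¹ * ·) this
            group at h'
            group
            simpa using h'
          rw [e]; exact hy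
      obtain ⟨Q', hQ', hRQ'⟩ := CfsgLib.Coprime.le_invariant_sylow (p := q) hbN hcopb (Or.inl hsolb)
        Rs (hRle.trans inf_le_left) (R.isPGroup'.map _) hbR
      obtain ⟨c₀, hc₀, hconj⟩ := CfsgLib.Coprime.invariant_sylow_conj hbN hcopb (Or.inl hsolb) Q' Q hQ'
        ((Subgroup.zpowers_le.2 hb).trans hQ)
      have hle : Rs.map (MulAut.conj c₀).toMonoidHom ≤ Qs ⊓ Subgroup.centralizer ({b} : Set G) := by
        rintro _ ⟨y, hy, rfl⟩
        refine ⟨by rw [hQs, ← hconj]; exact ⟨y, hRQ' hy, rfl⟩, ?_⟩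
        have h1 : c₀ * b = b * c₀ :=
          ((Subgroup.mem_centralizer_iff.1 hc₀.2) b (Subgroup.mem_zpowers b)).symm
        have h2 : c₀ ∈ Subgroup.centralizer ({b} : Set G) :=
          Subgroup.mem_centralizer_singleton_iff.2 h1
        exact mul_mem (mul_mem h2 (hRle hy).2) (Subgroup.inv_mem _ h2)
      have := Nat.le_of_dvd Nat.card_pos (Subgroup.card_dvd_of_le hle)
      rwa [Subgroup.card_map_of_injective (MulAut.conj c₀).injective,
        Subgroup.card_map_of_injective (Subgroup.subtype_injective _), R.card_eq_multiplicity] at this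
    have hQfac : ∀ c ∈ C, ∀ d ∈ D, ∀ x ∈ Qs, ∃ y ∈ Qs ⊓ Subgroup.centralizer ({d} : Set G),
        y⁻¹ * x ∈ Qs ⊓ Subgroup.centralizer ({c} : Set G) := by
      intro c hc d hd x hx
      set A := N ⊓ Subgroup.centralizer ({d} : Set G) with hA
      set B := N ⊓ Subgroup.centralizer ({c} : Set G) with hB
      set A' := Qs ⊓ Subgroup.centralizer ({d} : Set G) with hA'
      set B' := Qs ⊓ Subgroup.centralizer ({c} : Set G) with hB'
      have hcard := card_eq_of_factor (H := A) (L := B) inf_le_left inf_le_left (hfac c hc d hd)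
      have hv := congrArg (fun m => m.factorization q) hcard
      simp only [Nat.factorization_mul Nat.card_pos.ne' Nat.card_pos.ne', Finsupp.add_apply] at hv
      have hcap : Nat.card ↥(A' ⊓ B') ≤ q ^ (Nat.card ↥(A ⊓ B)).factorization q := by
        have hd1 : Nat.card ↥(A' ⊓ B') ∣ Nat.card ↥(A ⊓ B) :=
          Subgroup.card_dvd_of_le (inf_le_inf (inf_le_inf_right _ hQN) (inf_le_inf_right _ hQN))
        obtain ⟨j, -, hj⟩ := (Nat.dvd_prime_pow hq).1 (hQcard ▸ Subgroup.card_dvd_of_le
          (show A' ⊓ B' ≤ Qs from inf_le_left.trans inf_le_left))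
        rw [hj] at hd1 ⊢
        exact Nat.pow_le_pow_right hq.pos ((hq.pow_dvd_iff_le_factorization Nat.card_pos.ne').1 hd1)
      set S := ((fun a : A' × B' => (a.1 : G) * a.2) '' Set.univ : Set G) with hS
      have hSQ : S ⊆ (Qs : Set G) := by
        rintro _ ⟨a, -, rfl⟩
        exact mul_mem a.1.2.1 a.2.2.1
      have hbound : Nat.card Qs * Nat.card ↥(A' ⊓ B') ≤ Nat.card S * Nat.card ↥(A' ⊓ B') := by
        calc Nat.card Qs * Nat.card ↥(A' ⊓ B')
            ≤ q ^ (Nat.card N).factorization q * q ^ (Nat.card ↥(A ⊓ B)).factorization q := by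
              rw [hQcard]; exact Nat.mul_le_mul_left _ hcap
          _ = q ^ (Nat.card A).factorization q * q ^ (Nat.card B).factorization q := by
              rw [← pow_add, ← pow_add, hv]
          _ ≤ Nat.card A' * Nat.card B' := Nat.mul_le_mul (hbig d (hDP hd)) (hbig c (hCP hc))
          _ ≤ _ := card_mul_le A' B'
      have hSeq : S = (Qs : Set G) := by
        refine Set.eq_of_subset_of_ncard_le hSQ ?_ (Set.toFinite _)
        rw [← Nat.card_coe_set_eq, ← Nat.card_coe_set_eq]
        exact Nat.le_of_mul_le_mul_right hbound Nat.card_pos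
      have hxS : x ∈ S := hSeq.symm ▸ hx
      obtain ⟨a, -, rfl⟩ := hxS
      exact ⟨a.1, a.1.2, by simp⟩
    have hgen : ∀ S : Set G, Subgroup.closure S = Ps →
        Subgroup.closure ((Subtype.val : Ps → G) ⁻¹' S) = ⊤ := by
      intro S hS
      apply Subgroup.map_injective Ps.subtype_injective
      rw [MonoidHom.map_closure, ← MonoidHom.range_eq_map, Ps.range_subtype]
      conv_rhs => rw [← hS]
      congr 1
      exact Set.image_preimage_eq_of_subset (fun s hs =>
        ⟨⟨s, hS ▸ Subgroup.subset_closure hs⟩, rfl⟩)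
    have hact := isPGroup_action (M := Qs) (q := q) hp3 P.isPGroup' hqp _ _ (hgen C hC) (hgen D hD)
      _ rfl (Q.isPGroup'.map _) φ (fun c hc d hd x => by
        obtain ⟨y, hy, hyx⟩ := hQfac c hc d hd x x.2
        refine ⟨⟨y, hy.1⟩, Subtype.ext ?_, Subtype.ext ?_⟩
        · rw [hφ, ← Subgroup.mem_centralizer_singleton_iff.1 hy.2, mul_inv_cancel_right]
        · rw [hφ]
          show (c : G) * (y⁻¹ * (x : G)) * (c : G)⁻¹ = y⁻¹ * (x : G)
          rw [← Subgroup.mem_centralizer_singleton_iff.1 hyx.2, mul_inv_cancel_right])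
    intro x hx
    refine Subgroup.mem_centralizer_iff.2 fun b hb => ?_
    have := congrArg Subtype.val (hact ⟨b, hb⟩ ⟨x, hx⟩)
    rw [hφ] at this
    exact mul_inv_eq_iff_eq_mul.1 this
  have hdvd : Nat.card N ∣ Nat.card ↥(N ⊓ Subgroup.centralizer (Ps : Set G)) := by
    rw [← Nat.factorization_le_iff_dvd Nat.card_pos.ne' Nat.card_pos.ne']
    intro q
    by_cases hq : q.Prime
    · exact (hq.pow_dvd_iff_le_factorization Nat.card_pos.ne').1 (hcentre q hq)
    · simp [Nat.factorization_eq_zero_of_not_prime _ hq]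
  have heq := Subgroup.eq_of_le_of_card_ge
    (inf_le_left : N ⊓ Subgroup.centralizer (Ps : Set G) ≤ N) (Nat.le_of_dvd Nat.card_pos hdvd)
  rw [Subgroup.commutator_comm, Subgroup.commutator_eq_bot_iff_le_centralizer]
  exact heq ▸ inf_le_right
where
  exists_pow_of {p : ℕ} (P : Sylow p G) {u : G} (hu : u ∈ (P : Subgroup G)) :
      ∃ k : ℕ, u ^ p ^ k = 1 := by
    obtain ⟨k, hk⟩ := P.isPGroup' ⟨u, hu⟩
    exact ⟨k, congrArg Subtype.val hk⟩

end Internal

end CfsgLib.Coprime.TwoSets
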